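import Mathlib

/-!
Elementary facts on permutations commuting with an involution `τ`, and on block flips
(for S1645).
-/

set_option autoImplicit false

namespace Cfsg.Agent.Lib.S1645Lift56

open Equiv Equiv.Perm

variable {α : Type*} [DecidableEq α] [Fintype α]

/-- `p` maps every point to itself or to its partner under `τ`. -/
def IsFlip (τ p : Perm α) : Prop := ∀ a, p a = a ∨ p a = τ a

omit [DecidableEq α] [Fintype α] in
theorem inv_apply_of_sq {τ : Perm α} (hτ : τ * τ = 1) (a : α) : τ (τ a) = a :=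
  congrArg (fun p : Perm α => p a) hτ

omit [DecidableEq α] [Fintype α] in
theorem IsFlip.apply_tau {τ p : Perm α} (hp : IsFlip τ p) (hτ : τ * τ = 1) (a : α) :
    p (τ a) = τ (p a) := by
  have h1 := inv_apply_of_sq hτ a
  rcases hp a with e | e <;> rcases hp (τ a) with e' | e'
  · rw [e, e']
  · rw [h1] at e'
    have hh : p (τ a) = p a := e'.trans e.symm
    rw [p.injective hh, e, p.injective hh]
  · have hh : p a = p (τ a) := e.trans e'.symm
    have ha : a = τ a := p.injective hh
    rw [e', e]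
    rw [← ha, ← ha]
  · rw [e', e]

omit [DecidableEq α] [Fintype α] in
theorem IsFlip.sq {τ p : Perm α} (hp : IsFlip τ p) (hτ : τ * τ = 1) : p * p = 1 := by
  refine Equiv.ext fun a => ?_
  rw [Perm.mul_apply, Perm.one_apply]
  rcases hp a with e | e
  · rw [e, e]
  · rw [e, hp.apply_tau hτ, e, inv_apply_of_sq hτ]

omit [DecidableEq α] [Fintype α] in
theorem IsFlip.commute {τ p q : Perm α} (hp : IsFlip τ p) (hq : IsFlip τ q) (hτ : τ * τ = 1) :
    p * q = q * p := by
  refine Equiv.ext fun a => ?_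
  rw [Perm.mul_apply, Perm.mul_apply]
  rcases hp a with e | e <;> rcases hq a with e' | e'
  · rw [e', e, e']
  · rw [e', hp.apply_tau hτ, e, e']
  · rw [e', e, hq.apply_tau hτ, e']
  · rw [e, e', hp.apply_tau hτ, hq.apply_tau hτ, e, e']

omit [DecidableEq α] [Fintype α] in
theorem IsFlip.mul {τ p q : Perm α} (hp : IsFlip τ p) (hq : IsFlip τ q) (hτ : τ * τ = 1) :
    IsFlip τ (p * q) := by
  intro a
  rw [Perm.mul_apply]
  rcases hq a with e | e
  · rw [e]; exact hp a
  · rw [e, hp.apply_tau hτ]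
    rcases hp a with e' | e' <;> rw [e']
    · exact Or.inr rfl
    · exact Or.inl (inv_apply_of_sq hτ a)

omit [DecidableEq α] [Fintype α] in
theorem IsFlip.inv {τ p : Perm α} (hp : IsFlip τ p) (hτ : τ * τ = 1) : IsFlip τ p⁻¹ := by
  rw [inv_eq_of_mul_eq_one_right (hp.sq hτ)]
  exact hp

omit [DecidableEq α] [Fintype α] in
theorem IsFlip.conj {τ p g : Perm α} (hp : IsFlip τ p) (hg : g * τ = τ * g) :
    IsFlip τ (g * p * g⁻¹) := by
  intro a
  have hga : g (τ (g⁻¹ a)) = τ a := by
    have := congrArg (fun q : Perm α => q (g⁻¹ a)) hg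
    simpa using this
  rcases hp (g⁻¹ a) with e | e
  · left; rw [Perm.mul_apply, Perm.mul_apply, e]; exact g.apply_symm_apply a
  · right; rw [Perm.mul_apply, Perm.mul_apply, e, hga]

theorem sign_threeCycle {b x y : α} (hbx : b ≠ x) (hxy : x ≠ y) :
    sign (Equiv.swap b x * Equiv.swap x y) = 1 := by
  rw [map_mul, sign_swap hbx, sign_swap hxy]; rfl

theorem threeCycle_pow {b x y : α} (hbx : b ≠ x) (hxy : x ≠ y) (hby : b ≠ y) :
    (Equiv.swap b x * Equiv.swap x y) ^ 3 = 1 := by
  have h := isThreeCycle_swap_mul_swap_same hbx.symm hxy hby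
  rw [Equiv.swap_comm x b] at h
  rw [← h.orderOf]
  exact pow_orderOf_eq_one _

omit [DecidableEq α] [Fintype α] in
theorem exists_not_mem {S T : Finset α} (h : T.card < S.card) : ∃ x ∈ S, x ∉ T :=
  Finset.exists_mem_notMem_of_card_lt_card h

/-- An element moving a block of `τ` outside itself does not commute modulo `τ` with some conjugate
under the even permutations of order three centralising `τ`. -/
theorem exists_noncomm_conj {τ u : Perm α} (hτ : τ * τ = 1) (hcard : 8 < τ.support.card)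
    (hu : u * τ = τ * u) (hsq : u * u = 1 ∨ u * u = τ) {a : α} (hta : τ a ≠ a) (hua : u a ≠ a)
    (huta : u a ≠ τ a) :
    ∃ c : Perm α, sign c = 1 ∧ c ^ 3 = 1 ∧ c * τ = τ * c ∧
      u * (c * u * c⁻¹) ≠ c * u * c⁻¹ * u ∧ u * (c * u * c⁻¹) ≠ c * u * c⁻¹ * u * τ := by
  have ht := inv_apply_of_sq hτ
  have hut : ∀ w, u (τ w) = τ (u w) := fun w => congrArg (fun p : Perm α => p w) hu
  set b := u a with hb
  obtain ⟨x, hxS, hx⟩ := exists_not_mem (S := τ.support) (T := {a, τ a, b, τ b})
    (lt_of_le_of_lt Finset.card_le_four (by omega))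
  obtain ⟨y, hyS, hy⟩ := exists_not_mem (S := τ.support)
    (T := ({a, τ a, b, τ b} : Finset α) ∪ {x, τ x, u x, τ (u x)})
    (lt_of_le_of_lt ((Finset.card_union_le _ _).trans
      (Nat.add_le_add Finset.card_le_four Finset.card_le_four)) (by omega))
  simp only [Finset.mem_union, Finset.mem_insert, Finset.mem_singleton, not_or] at hx hy
  obtain ⟨hxa, hxta, hxb, hxtb⟩ := hx
  obtain ⟨⟨hya, hyta, hyb, hytb⟩, hyx, hytx, hyux, hytux⟩ := hy
  have hxt : τ x ≠ x := mem_support.1 hxS
  have hyt : τ y ≠ y := mem_support.1 hyS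
  have hbt : τ b ≠ b := fun e => hta (u.injective (by rw [hut a, ← hb, e]))
  have hbx : b ≠ x := Ne.symm hxb
  have hby : b ≠ y := Ne.symm hyb
  have hxy : x ≠ y := Ne.symm hyx
  have flip : ∀ p q : α, p ≠ τ q → τ p ≠ q := fun p q hpq e => hpq (by rw [← e, ht])
  set c₁ := Equiv.swap b x * Equiv.swap x y with hc₁
  set c₂ := Equiv.swap (τ b) (τ x) * Equiv.swap (τ x) (τ y) with hc₂
  set c := c₁ * c₂ with hc
  have h1 : τ * c₁ * τ⁻¹ = c₂ := by
    rw [hc₁, hc₂, swap_apply_apply τ b x, swap_apply_apply τ x y]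
    group
  have h1' : τ * c₁ = c₂ * τ := by rw [← h1]; group
  have h2' : τ * c₂ = c₁ * τ := by
    have htinv : τ⁻¹ = τ := inv_eq_of_mul_eq_one_right hτ
    rw [← h1, htinv, ← mul_assoc, ← mul_assoc, hτ, one_mul]
  have hdisj : Perm.Disjoint c₁ c₂ := by
    intro w
    by_cases hw : w = b ∨ w = x ∨ w = y
    · right
      rcases hw with rfl | rfl | rfl
      · simp [hc₂, swap_apply_of_ne_of_ne, hbt.symm, Ne.symm (flip _ _ hxtb), Ne.symm (flip _ _ hytb)]
      · simp [hc₂, swap_apply_of_ne_of_ne, hxt.symm, hxtb, Ne.symm (flip _ _ hytx)]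
      · simp [hc₂, swap_apply_of_ne_of_ne, hyt.symm, hytb, hytx]
    · left
      push Not at hw
      simp [hc₁, swap_apply_of_ne_of_ne, hw]
  have hcτ : c * τ = τ * c := by
    rw [hc, mul_assoc, ← h1', ← mul_assoc, ← h2', mul_assoc, ← hdisj.commute.eq]
  have hc3 : c ^ 3 = 1 := by
    rw [hc, hdisj.commute.mul_pow, threeCycle_pow hbx hxy hby, one_mul, hc₂,
      threeCycle_pow (fun e => hbx (τ.injective e)) (fun e => hxy (τ.injective e))
        (fun e => hby (τ.injective e))]
  have hcs : sign c = 1 := by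
    rw [hc, map_mul, sign_threeCycle hbx hxy,
      sign_threeCycle (fun e => hbx (τ.injective e)) (fun e => hxy (τ.injective e)), one_mul]
  have hfix : ∀ w, w ≠ b → w ≠ x → w ≠ y → w ≠ τ b → w ≠ τ x → w ≠ τ y → c w = w := by
    intro w k1 k2 k3 k4 k5 k6
    simp [hc, hc₁, hc₂, swap_apply_of_ne_of_ne, k1, k2, k3, k4, k5, k6]
  have hct : ∀ w, c (τ w) = τ (c w) := fun w => congrArg (fun p : Perm α => p w) hcτ
  have hcb : c b = x := by
    simp [hc, hc₁, hc₂, swap_apply_of_ne_of_ne, hbt.symm, Ne.symm (flip _ _ hxtb),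
      Ne.symm (flip _ _ hytb), hbx, hby]
  have hcy : c y = b := by
    simp [hc, hc₁, hc₂, swap_apply_of_ne_of_ne, hyt.symm, hytb, hytx]
  have hca : c a = a := hfix a (Ne.symm hua) (Ne.symm hxa) (Ne.symm hya)
    (Ne.symm (flip _ _ huta)) (Ne.symm (flip _ _ hxta)) (Ne.symm (flip _ _ hyta))
  have hca' : c⁻¹ a = a := Perm.inv_eq_iff_eq.2 hca.symm
  have hcb' : c⁻¹ b = y := Perm.inv_eq_iff_eq.2 hcy.symm
  have hU : (c * u * c⁻¹) a = x := by rw [Perm.mul_apply, Perm.mul_apply, hca', ← hb, hcb]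
  have hU2 : (c * u * c⁻¹ * u) a = c (u y) := by
    rw [Perm.mul_apply, Perm.mul_apply, Perm.mul_apply, ← hb, hcb']
  have hU3 : (c * u * c⁻¹ * u * τ) a = τ (c (u y)) := by
    have hci : c⁻¹ (τ b) = τ y := Perm.inv_eq_iff_eq.2 (by rw [hct, hcy])
    simp only [Perm.mul_apply, hut a, ← hb, hci, hut y, hct]
  -- the value of `u` at `x` is not `c (u y)` or its partner
  have key : c (u y) ≠ u x ∧ c (u y) ≠ τ (u x) := by
    have hux : u x ≠ b := fun e => hxa (u.injective (e.trans hb))
    have hutx : τ (u x) ≠ b := fun e => hxta (u.injective (by rw [hut, ← hb, ← e, ht]))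
    by_cases k1 : u y = y
    · rw [k1, hcy]; exact ⟨Ne.symm hux, Ne.symm hutx⟩
    by_cases k2 : u y = τ y
    · rw [k2, hct, hcy]
      exact ⟨fun e => hutx (by rw [← e, ht]), fun e => hux (τ.injective e).symm⟩
    have k3 : u y ≠ x := by
      intro e
      have huu : u x = (u * u) y := by rw [Perm.mul_apply, e]
      rcases hsq with hs | hs
      · rw [hs, Perm.one_apply] at huu; exact hyux huu.symm
      · rw [hs] at huu; exact hytux (by rw [huu, ht])
    have k4 : u y ≠ τ x := by
      intro e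
      have huu : τ (u x) = (u * u) y := by rw [Perm.mul_apply, e, hut]
      rcases hsq with hs | hs
      · rw [hs, Perm.one_apply] at huu; exact hytux huu.symm
      · rw [hs] at huu; exact hyux (τ.injective huu).symm
    rw [hfix (u y) (fun e => hya (u.injective (e.trans hb))) k3 k1
      (fun e => hyta (u.injective (by rw [hut, ← hb, e]))) k4 k2]
    exact ⟨fun e => hyx (u.injective e), fun e => hytx (u.injective (by rw [hut, e]))⟩
  refine ⟨c, hcs, hc3, hcτ, fun e => key.1 ?_, fun e => key.2 ?_⟩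
  · rw [← hU2, ← e, Perm.mul_apply, hU]
  · have h := congrArg (fun p : Perm α => p a) e
    simp only [hU3] at h
    rw [Perm.mul_apply, hU] at h
    rw [h, ht]

/-- An involution does not commute with all its conjugates under three-cycles in its support. -/
theorem exists_noncomm_threeCycle {u : Perm α} (hsq : u * u = 1) (hcard : 4 < u.support.card) :
    ∃ c : Perm α, sign c = 1 ∧ c ^ 3 = 1 ∧ c.support ⊆ u.support ∧
      u * (c * u * c⁻¹) ≠ c * u * c⁻¹ * u := by
  have ht := inv_apply_of_sq hsq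
  obtain ⟨a, haS⟩ := Finset.card_pos.1 (show 0 < u.support.card by omega)
  have hua := mem_support.1 haS
  set b := u a with hb
  have hbS : b ∈ u.support := mem_support.2 (by rw [hb, ht]; exact Ne.symm hua)
  obtain ⟨x, hxS, hx⟩ := exists_not_mem (S := u.support) (T := {a, b})
    (lt_of_le_of_lt Finset.card_le_two (by omega))
  obtain ⟨y, hyS, hy⟩ := exists_not_mem (S := u.support) (T := {a, b, x, u x})
    (lt_of_le_of_lt Finset.card_le_four (by omega))
  simp only [Finset.mem_insert, Finset.mem_singleton, not_or] at hx hy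
  obtain ⟨hxa, hxb⟩ := hx
  obtain ⟨hya, hyb, hyx, hyux⟩ := hy
  have hbx : b ≠ x := Ne.symm hxb
  have hby : b ≠ y := Ne.symm hyb
  have hxy : x ≠ y := Ne.symm hyx
  set c := Equiv.swap b x * Equiv.swap x y with hc
  have hfix : ∀ w, w ≠ b → w ≠ x → w ≠ y → c w = w := by
    intro w k1 k2 k3; simp [hc, swap_apply_of_ne_of_ne, k1, k2, k3]
  refine ⟨c, sign_threeCycle hbx hxy, threeCycle_pow hbx hxy hby, ?_, fun e => ?_⟩
  · intro w hw
    rw [mem_support] at hw
    by_contra hn
    exact hw (hfix w (fun e => hn (e ▸ hbS)) (fun e => hn (e ▸ hxS)) (fun e => hn (e ▸ hyS)))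
  · have hcb : c b = x := by simp [hc, swap_apply_of_ne_of_ne, hbx, hby]
    have hcy : c y = b := by simp [hc]
    have hca' : c⁻¹ a = a :=
      Perm.inv_eq_iff_eq.2 (hfix a (Ne.symm hua) (Ne.symm hxa) (Ne.symm hya)).symm
    have hcb' : c⁻¹ b = y := Perm.inv_eq_iff_eq.2 hcy.symm
    have h := congrArg (fun p : Perm α => p a) e
    simp only [Perm.mul_apply, hca', ← hb, hcb, hcb'] at h
    have huy : u y ≠ y := mem_support.1 hyS
    rw [hfix (u y) (fun e => hya (u.injective (e.trans hb)))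
      (fun e => hyux (by rw [← e, ht])) huy] at h
    exact hxy (u.injective h)

/-- A permutation commuting with all double flips of `τ` preserves every block. -/
theorem flip_of_comm {τ g : Perm α} (hτ : τ * τ = 1) (hcard : 4 < τ.support.card)
    (hg : ∀ a c, τ a ≠ a → τ c ≠ c → c ≠ a → c ≠ τ a →
      g * (Equiv.swap a (τ a) * Equiv.swap c (τ c)) = Equiv.swap a (τ a) * Equiv.swap c (τ c) * g)
    {a : α} (ha : τ a ≠ a) : g a = a ∨ g a = τ a := by
  have ht := inv_apply_of_sq hτ
  have key : ∀ c, τ c ≠ c → c ≠ a → c ≠ τ a → g a = a ∨ g a = τ a ∨ g a = c ∨ g a = τ c := by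
    intro c hc hca hcta
    by_contra hn
    push Not at hn
    obtain ⟨k1, k2, k3, k4⟩ := hn
    have h := congrArg (fun p : Perm α => p a) (hg a c ha hc hca hcta)
    have hatc : a ≠ τ c := fun e => hcta (by rw [e, ht])
    simp only [Perm.mul_apply, swap_apply_of_ne_of_ne k1 k2, swap_apply_of_ne_of_ne k3 k4,
      swap_apply_of_ne_of_ne (Ne.symm hca) hatc, swap_apply_left] at h
    exact ha (g.injective h)
  obtain ⟨c, hcS, hc⟩ := exists_not_mem (S := τ.support) (T := {a, τ a})
    (lt_of_le_of_lt Finset.card_le_two (by omega))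
  obtain ⟨e, heS, he⟩ := exists_not_mem (S := τ.support) (T := {a, τ a, c, τ c})
    (lt_of_le_of_lt Finset.card_le_four (by omega))
  simp only [Finset.mem_insert, Finset.mem_singleton, not_or] at hc he
  have hce := key c (mem_support.1 hcS) hc.1 hc.2
  rcases key e (mem_support.1 heS) he.1 he.2.1 with k | k | k | k
  · exact Or.inl k
  · exact Or.inr k
  · rcases hce with k' | k' | k' | k'
    · exact Or.inl k'
    · exact Or.inr k'
    · exact absurd (k.symm.trans k') he.2.2.1
    · exact absurd (k.symm.trans k') he.2.2.2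
  · rcases hce with k' | k' | k' | k'
    · exact Or.inl k'
    · exact Or.inr k'
    · exact absurd (by rw [← k.symm.trans k', ht] : e = τ c) he.2.2.2
    · exact absurd (τ.injective (k.symm.trans k')) he.2.2.1

end Cfsg.Agent.Lib.S1645Lift56
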