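import Cfsg.Agent.Lib.S1645Lift56.Twist
import Cfsg.Agent.Lib.S1645Lift56.Perms

/-!
Double flips of an involution and their lifts (for S1645).
-/

set_option autoImplicit false

namespace Cfsg.Agent.Lib.S1645Lift56

open Equiv Equiv.Perm
open Cfsg.Agent.Lib.CommCover12

universe u

variable {G : Type u} [Group G] {n : ℕ} {π : G →* Perm (Fin n)} {z : G}

/-- The double flip of the blocks of `a` and `c`. -/
abbrev flipPair (τ : Perm (Fin n)) (a c : Fin n) : Perm (Fin n) :=
  Equiv.swap a (τ a) * Equiv.swap c (τ c)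

theorem flip_nodup {τ : Perm (Fin n)} (hτ : τ * τ = 1) {a c : Fin n} (ha : τ a ≠ a) (hc : τ c ≠ c)
    (hca : c ≠ a) (hcta : c ≠ τ a) : [a, τ a, c, τ c].Nodup := by
  have hatc : a ≠ τ c := fun e => hcta (by rw [e, inv_apply_of_sq hτ])
  have htt : τ a ≠ τ c := fun e => hca (τ.injective e).symm
  simp [Ne.symm ha, Ne.symm hc, Ne.symm hca, Ne.symm hcta, hatc, htt]

theorem isFlip_flipPair {τ : Perm (Fin n)} (hτ : τ * τ = 1) {a c : Fin n} (ha : τ a ≠ a)
    (hc : τ c ≠ c) (hca : c ≠ a) (hcta : c ≠ τ a) : IsFlip τ (flipPair τ a c) := by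
  have hd := flip_nodup hτ ha hc hca hcta
  simp only [List.nodup_cons, List.mem_cons, List.not_mem_nil, or_false, not_or, List.nodup_nil,
    and_true, not_false_eq_true] at hd
  obtain ⟨⟨-, hac, hatc⟩, ⟨htac, htt⟩, -⟩ := hd
  intro w
  by_cases h : w = a ∨ w = τ a ∨ w = c ∨ w = τ c
  · right
    rcases h with rfl | rfl | rfl | rfl
    · simp [swap_apply_of_ne_of_ne, hac, hatc]
    · simp [swap_apply_of_ne_of_ne, htac, htt, inv_apply_of_sq hτ]
    · simp [swap_apply_of_ne_of_ne, Ne.symm hatc, Ne.symm htt]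
    · simp [swap_apply_of_ne_of_ne, Ne.symm hac, Ne.symm htac, inv_apply_of_sq hτ]
  · left
    push Not at h
    simp [swap_apply_of_ne_of_ne, h]

theorem disjoint_flipPair {τ : Perm (Fin n)} (hτ : τ * τ = 1) {a c : Fin n} (ha : τ a ≠ a)
    (hc : τ c ≠ c) (hca : c ≠ a) (hcta : c ≠ τ a) :
    Perm.Disjoint (flipPair τ a c) (flipPair τ a c * τ) := by
  intro w
  have hf := isFlip_flipPair hτ ha hc hca hcta
  rcases hf w with e | e
  · exact Or.inl e
  · refine Or.inr ?_
    rw [Perm.mul_apply, hf.apply_tau hτ, e, inv_apply_of_sq hτ]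

/-- A lift of a factor commutes with the lift of the product. -/
theorem comm_of_factor (h : IsCoverMap π z) {s x : G} {p q : Perm (Fin n)} (hs : π s = p)
    (hx : π x = p * q) (hd : Perm.Disjoint p q) : s * x = x * s := by
  have hW : π (s⁻¹ * x) = q := by rw [map_mul, map_inv, hs, hx, inv_mul_cancel_left]
  have hc : s * (s⁻¹ * x) = s⁻¹ * x * s := comm_of_disjoint h (by rw [hs, hW]; exact hd)
  calc s * x = s * (s * (s⁻¹ * x)) := by group
    _ = s * (s⁻¹ * x * s) := by rw [hc]
    _ = x * s := by group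

/-- Lifts of double flips of `π x` commute with `x`. -/
theorem comm_flipPair (h : IsCoverMap π z) {s x : G} (hx2 : π x * π x = 1) {a c : Fin n}
    (ha : π x a ≠ a) (hc : π x c ≠ c) (hca : c ≠ a) (hcta : c ≠ π x a)
    (hs : π s = flipPair (π x) a c) : s * x = x * s :=
  comm_of_factor h hs (q := flipPair (π x) a c * π x)
    (by rw [← mul_assoc, (isFlip_flipPair hx2 ha hc hca hcta).sq hx2, one_mul])
    (disjoint_flipPair hx2 ha hc hca hcta)

/-- The commutator of two elements with the same image of the products is `1` or `z`. -/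
theorem comm_cases (h : IsCoverMap π z) {x y : G} (e : π x * π y = π y * π x) :
    x * y = y * x ∨ x * y = y * x * z :=
  h.eq_or (by rw [map_mul, map_mul, e])

/-- An involution is a lift of a product of `4k` transpositions, `k ≥ 1`. -/
theorem support_involution [Finite G] (h : IsCoverMap π z) (hn : 4 ≤ n) {x : G} (hx : x * x = 1)
    (hx1 : x ≠ 1) (hxz : x ≠ z) :
    ∃ k, 1 ≤ k ∧ (π x).cycleType = Multiset.replicate (4 * k) 2 ∧ (π x).support.card = 8 * k := by
  obtain ⟨k, hk⟩ := (mul_self_eq_one_iff h hn).1 hx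
  refine ⟨k, Nat.one_le_iff_ne_zero.2 ?_, hk, ?_⟩
  · rintro rfl
    rw [Nat.mul_zero, Multiset.replicate_zero, cycleType_eq_zero] at hk
    rcases h.mem_ker x hk with e | e
    · exact hx1 e
    · exact hxz e
  · rw [← sum_cycleType, hk, Multiset.sum_replicate, smul_eq_mul]
    ring

end Cfsg.Agent.Lib.S1645Lift56
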