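import Cfsg.Agent.Lib.S1645Lift56.Flip

/-!
Two double covers sharing an intersection: the fused involutions lie over four transpositions on
both sides, and there are at most three further points (for S1645).

`z` and `t` commute, `C(z)` and `C(t)` are double covers of `A_n`.  Lifts of double flips of the
image of `t` square into `⟨z⟩` and commute modulo `z` with their conjugates, and two of them have
commutator `z`; seen from `C(t)` this is impossible when the image of `z` moves more than eight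
points.  When four points are left over, the lifts of three-cycles on them centralise all double
flips seen from `C(t)`, hence fix the support of the image of `z`, although `z` is the square of a
product of two of them.
-/

set_option autoImplicit false

namespace Cfsg.Agent.Lib.S1645Lift56

open Equiv Equiv.Perm Subgroup
open Cfsg.Agent.Lib.CommCover12

universe u

variable {n : ℕ}

theorem swap_comm_of_nodup {a b c d : Fin n} (hd : [a, b, c, d].Nodup) :
    Equiv.swap c d * Equiv.swap a b = Equiv.swap a b * Equiv.swap c d := by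
  simp only [List.nodup_cons, List.mem_cons, List.not_mem_nil, or_false, not_or, List.nodup_nil,
    and_true, not_false_eq_true] at hd
  obtain ⟨⟨hab, hac, had⟩, ⟨hbc, hbd⟩, hcd⟩ := hd
  refine (Perm.Disjoint.commute ?_).eq
  intro w
  by_cases hw : w = c ∨ w = d
  · right
    rcases hw with rfl | rfl
    · exact swap_apply_of_ne_of_ne (Ne.symm hac) (Ne.symm hbc)
    · exact swap_apply_of_ne_of_ne (Ne.symm had) (Ne.symm hbd)
  · left
    push Not at hw
    exact swap_apply_of_ne_of_ne hw.1 hw.2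

theorem three_mul_three {p q r s : Fin n} (hd : [p, q, r, s].Nodup) :
    Equiv.swap p q * Equiv.swap q r * (Equiv.swap p q * Equiv.swap q s) =
      Equiv.swap p r * Equiv.swap q s := by
  simp only [List.nodup_cons, List.mem_cons, List.not_mem_nil, or_false, not_or, List.nodup_nil,
    and_true, not_false_eq_true] at hd
  obtain ⟨⟨hpq, hpr, hps⟩, ⟨hqr, hqs⟩, hrs⟩ := hd
  rw [show Equiv.swap p q * Equiv.swap q r * (Equiv.swap p q * Equiv.swap q s) =
    Equiv.swap p q * Equiv.swap q r * Equiv.swap p q * Equiv.swap q s by simp only [mul_assoc]]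
  have h := swap_apply_apply (Equiv.swap p q) q r
  rw [swap_apply_right, swap_apply_of_ne_of_ne (Ne.symm hpr) (Ne.symm hqr), Equiv.swap_inv] at h
  rw [← h]

section OneSide

variable {G : Type u} [Group G] {π : G →* Perm (Fin n)} {z : G}

/-- Two double flips of the image of `x` with commutator `z`. -/
theorem exists_pair [Finite G] (h : IsCoverMap π z) (hn : 4 ≤ n) {x : G} (hx2 : π x * π x = 1)
    (hcard : 4 < (π x).support.card) :
    ∃ u v : G, u * x = x * u ∧ v * x = x * v ∧ u * v = v * u * z ∧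
      ((u * u = 1 ∨ u * u = z) ∧ ∀ g : G, g * x = x * g →
        u * (g * u * g⁻¹) = g * u * g⁻¹ * u ∨ u * (g * u * g⁻¹) = g * u * g⁻¹ * u * z) ∧
      ((v * v = 1 ∨ v * v = z) ∧ ∀ g : G, g * x = x * g →
        v * (g * v * g⁻¹) = g * v * g⁻¹ * v ∨ v * (g * v * g⁻¹) = g * v * g⁻¹ * v * z) := by
  set τ := π x with hτ
  obtain ⟨a, haS⟩ := Finset.card_pos.1 (show 0 < τ.support.card by omega)
  obtain ⟨c, hcS, hc⟩ := exists_not_mem (S := τ.support) (T := {a, τ a})
    (lt_of_le_of_lt Finset.card_le_two (by omega))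
  obtain ⟨e, heS, he⟩ := exists_not_mem (S := τ.support) (T := {a, τ a, c, τ c})
    (lt_of_le_of_lt Finset.card_le_four (by omega))
  simp only [Finset.mem_insert, Finset.mem_singleton, not_or] at hc he
  have ha := mem_support.1 haS
  have hct := mem_support.1 hcS
  have het := mem_support.1 heS
  have hsign : ∀ p q : Fin n, τ p ≠ p → τ q ≠ q → sign (flipPair τ p q) = 1 := fun p q hp hq =>
    sign_two_swaps (Ne.symm hp) (Ne.symm hq)
  obtain ⟨u, hu⟩ := h.lift (hsign a c ha hct)
  obtain ⟨v, hv⟩ := h.lift (hsign a e ha het)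
  have fu := isFlip_flipPair hx2 ha hct hc.1 hc.2
  have fv := isFlip_flipPair hx2 ha het he.1 he.2.1
  have hprod : flipPair τ a c * flipPair τ a e = flipPair τ c e := by
    show Equiv.swap a (τ a) * Equiv.swap c (τ c) * (Equiv.swap a (τ a) * Equiv.swap e (τ e)) =
      Equiv.swap c (τ c) * Equiv.swap e (τ e)
    rw [← swap_comm_of_nodup (flip_nodup hx2 ha hct hc.1 hc.2), mul_assoc, swap_mul_self_mul]
  have hct2 : (π u * π v).cycleType = {2, 2} := by
    rw [hu, hv, hprod]
    exact cycleType_two_swaps (flip_nodup hx2 hct het he.2.2.1 he.2.2.2)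
  have hcomm : π v * π u = π u * π v := by rw [hu, hv]; exact fv.commute fu hx2
  have h4 := h.four_anticomm hn
    (by rw [hu]; exact cycleType_two_swaps (flip_nodup hx2 ha hct hc.1 hc.2))
    (by rw [hv]; exact cycleType_two_swaps (flip_nodup hx2 ha het he.1 he.2.1)) hct2 hcomm
  have rest : ∀ w : G, IsFlip τ (π w) → (w * w = 1 ∨ w * w = z) ∧ ∀ g : G, g * x = x * g →
      w * (g * w * g⁻¹) = g * w * g⁻¹ * w ∨ w * (g * w * g⁻¹) = g * w * g⁻¹ * w * z := by
    intro w fw
    refine ⟨h.mem_ker _ (by rw [map_mul]; exact fw.sq hx2), fun g hg => comm_cases h ?_⟩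
    rw [map_mul, map_mul, map_inv]
    exact fw.commute (fw.conj (by rw [hτ, ← map_mul, hg, map_mul])) hx2
  refine ⟨u, v, comm_flipPair h hx2 ha hct hc.1 hc.2 hu, comm_flipPair h hx2 ha het he.1 he.2.1 hv,
    ?_, rest u (by rw [hu]; exact fu), rest v (by rw [hv]; exact fv)⟩
  have h5 : v * u = u * z * v := by rw [← h4]; group
  rw [h5, show u * z * v * z = u * (z * v) * z by group, comm' h v,
    show u * (v * z) * z = u * v * (z * z) by group, h.sq, mul_one]

/-- Such a pair, with `w` in the place of `z`, forces `w` to move at most eight points. -/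
theorem card_support_le_eight (h : IsCoverMap π z) {w u v : G} (hw2 : π w * π w = 1)
    (huw : u * w = w * u) (hvw : v * w = w * v) (huv : u * v = v * u * w)
    (hu : (u * u = 1 ∨ u * u = w) ∧ ∀ g : G, g * w = w * g →
      u * (g * u * g⁻¹) = g * u * g⁻¹ * u ∨ u * (g * u * g⁻¹) = g * u * g⁻¹ * u * w)
    (hv : (v * v = 1 ∨ v * v = w) ∧ ∀ g : G, g * w = w * g →
      v * (g * v * g⁻¹) = g * v * g⁻¹ * v ∨ v * (g * v * g⁻¹) = g * v * g⁻¹ * v * w) :
    (π w).support.card ≤ 8 := by
  by_contra hcard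
  push Not at hcard
  set τ := π w with hτ
  have key : ∀ r : G, r * w = w * r → ((r * r = 1 ∨ r * r = w) ∧ ∀ g : G, g * w = w * g →
      r * (g * r * g⁻¹) = g * r * g⁻¹ * r ∨ r * (g * r * g⁻¹) = g * r * g⁻¹ * r * w) →
      ∀ a, τ a ≠ a → π r a = a ∨ π r a = τ a := by
    intro r hrw hr a ha
    by_contra hne
    push Not at hne
    obtain ⟨c, hcs, hc3, hcτ, hc1, hc2⟩ := exists_noncomm_conj (u := π r) hw2 hcard
      (by rw [hτ, ← map_mul, hrw, map_mul])
      (hr.1.imp (fun e => by rw [← map_mul, e, map_one]) (fun e => by rw [← map_mul, e])) ha hne.1 hne.2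
    obtain ⟨g, hg, hg3⟩ := exists_odd_lift h hcs (m := 3) (by decide) hc3
    have hgw : g * w = w * g :=
      (comm_of_odd h (by decide) hg3 (by rw [hg]; exact hcτ.symm)).symm
    rcases hr.2 g hgw with e | e
    · exact hc1 (by have := congrArg π e; simpa [hg] using this)
    · exact hc2 (by have := congrArg π e; simpa [hg, hτ] using this)
  obtain ⟨a, haS⟩ := Finset.card_pos.1 (show 0 < τ.support.card by omega)
  have ha := mem_support.1 haS
  have ht := inv_apply_of_sq hw2
  have hru : ∀ p, π u (τ p) = τ (π u p) := fun p =>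
    congrArg (fun q : Perm (Fin n) => q p) (by rw [hτ, ← map_mul, huw, map_mul] : π u * τ = τ * π u)
  have hrv : ∀ p, π v (τ p) = τ (π v p) := fun p =>
    congrArg (fun q : Perm (Fin n) => q p) (by rw [hτ, ← map_mul, hvw, map_mul] : π v * τ = τ * π v)
  have heq : π u (π v a) = π v (π u (τ a)) := by
    have := congrArg (fun r : G => π r a) huv
    simpa only [map_mul, Perm.mul_apply] using this
  rcases key u huw hu a ha with e1 | e1 <;> rcases key v hvw hv a ha with e2 | e2 <;>
    · simp only [hru, hrv, e1, e2, ht] at heq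
      first
        | exact ha heq
        | exact ha heq.symm

end OneSide

section Ambient

variable {G : Type u} [Group G] {z t : G}
  {π : ↥(centralizer ({z} : Set G)) →* Perm (Fin n)}
  {π' : ↥(centralizer ({t} : Set G)) →* Perm (Fin n)}
  {hzz : z ∈ centralizer ({z} : Set G)} {htt : t ∈ centralizer ({t} : Set G)}
  {hzt : z ∈ centralizer ({t} : Set G)} {htz : t ∈ centralizer ({z} : Set G)}

/-- An element of `C(z)` commuting with `t`, inside `C(t)`. -/
def across (u : ↥(centralizer ({z} : Set G)))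
    (e : u * ⟨t, htz⟩ = (⟨t, htz⟩ : ↥(centralizer ({z} : Set G))) * u) :
    ↥(centralizer ({t} : Set G)) :=
  ⟨u.1, mem_centralizer_singleton_iff.2 (congrArg Subtype.val e)⟩

theorem across_comm (u : ↥(centralizer ({z} : Set G)))
    (e : u * ⟨t, htz⟩ = (⟨t, htz⟩ : ↥(centralizer ({z} : Set G))) * u) :
    across u e * ⟨z, hzt⟩ = (⟨z, hzt⟩ : ↥(centralizer ({t} : Set G))) * across u e :=
  Subtype.ext (mem_centralizer_singleton_iff.1 u.2)

/-- The image of `z` in the cover `C(t)` moves at most eight points. -/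
theorem support_le_eight [Finite G] (h : IsCoverMap π ⟨z, hzz⟩) (h' : IsCoverMap π' ⟨t, htt⟩)
    (hn : 4 ≤ n) (hz2 : z * z = 1) (ht2 : t * t = 1) (hk : 4 < (π ⟨t, htz⟩).support.card) :
    (π' ⟨z, hzt⟩).support.card ≤ 8 := by
  obtain ⟨u, v, hux, hvx, huv, hu, hv⟩ := exists_pair h hn (x := ⟨t, htz⟩)
    (by rw [← map_mul, show (⟨t, htz⟩ : ↥(centralizer ({z} : Set G))) * ⟨t, htz⟩ = 1 from
      Subtype.ext ht2, map_one]) hk
  refine card_support_le_eight h' (w := ⟨z, hzt⟩) (u := across u hux) (v := across v hvx)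
    (by rw [← map_mul, show (⟨z, hzt⟩ : ↥(centralizer ({t} : Set G))) * ⟨z, hzt⟩ = 1 from
      Subtype.ext hz2, map_one])
    (across_comm u hux) (across_comm v hvx) ?_ ⟨?_, ?_⟩ ⟨?_, ?_⟩
  · exact Subtype.ext (congrArg Subtype.val huv :)
  · rcases hu.1 with e | e
    · exact Or.inl (Subtype.ext (congrArg Subtype.val e :))
    · exact Or.inr (Subtype.ext (congrArg Subtype.val e :))
  · intro g hg
    have hgz : (g : G) ∈ centralizer ({z} : Set G) :=
      mem_centralizer_singleton_iff.2 (congrArg Subtype.val hg :)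
    rcases hu.2 ⟨g, hgz⟩ (Subtype.ext (mem_centralizer_singleton_iff.1 g.2)) with e | e
    · exact Or.inl (Subtype.ext (congrArg Subtype.val e :))
    · exact Or.inr (Subtype.ext (congrArg Subtype.val e :))
  · rcases hv.1 with e | e
    · exact Or.inl (Subtype.ext (congrArg Subtype.val e :))
    · exact Or.inr (Subtype.ext (congrArg Subtype.val e :))
  · intro g hg
    have hgz : (g : G) ∈ centralizer ({z} : Set G) :=
      mem_centralizer_singleton_iff.2 (congrArg Subtype.val hg :)
    rcases hv.2 ⟨g, hgz⟩ (Subtype.ext (mem_centralizer_singleton_iff.1 g.2)) with e | e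
    · exact Or.inl (Subtype.ext (congrArg Subtype.val e :))
    · exact Or.inr (Subtype.ext (congrArg Subtype.val e :))

/-- An element fixing the support of `π t` and flipping blocks of `π' z` is `1` or `z`. -/
theorem eq_one_or_z [Finite G] (h : IsCoverMap π ⟨z, hzz⟩) (h' : IsCoverMap π' ⟨t, htt⟩)
    (hn : 4 ≤ n) (hz2 : z * z = 1) (hT : (π ⟨t, htz⟩) ≠ 1) {w : G}
    (hwz : w ∈ centralizer ({z} : Set G)) (hwt : w ∈ centralizer ({t} : Set G))
    (hL : ∀ a, π ⟨t, htz⟩ a ≠ a → π ⟨w, hwz⟩ a = a) (hF : IsFlip (π' ⟨z, hzt⟩) (π' ⟨w, hwt⟩)) :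
    w = 1 ∨ w = z := by
  set τ := π ⟨t, htz⟩ with hτ
  have hτ' : π' ⟨z, hzt⟩ * π' ⟨z, hzt⟩ = 1 := by
    rw [← map_mul, show (⟨z, hzt⟩ : ↥(centralizer ({t} : Set G))) * ⟨z, hzt⟩ = 1 from
      Subtype.ext hz2, map_one]
  obtain ⟨a₀, ha₀⟩ : ∃ a, τ a ≠ a := not_forall.1 fun hh => hT (Equiv.ext fun a => by simpa using hh a)
  have hnot : ∀ x : ↥(centralizer ({z} : Set G)), (∀ a, τ a ≠ a → π x a = a) → (x : G) ≠ t := by
    intro x hx e
    exact ha₀ (by have := hx a₀ ha₀; rwa [show x = ⟨t, htz⟩ from Subtype.ext e] at this)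
  have hsq : w * w = 1 := by
    rcases h'.mem_ker (⟨w, hwt⟩ * ⟨w, hwt⟩) (by rw [map_mul]; exact hF.sq hτ') with e | e
    · exact congrArg Subtype.val e
    · refine absurd (congrArg Subtype.val e : w * w = t)
        (hnot (⟨w, hwz⟩ * ⟨w, hwz⟩) fun a ha => ?_)
      rw [map_mul, Perm.mul_apply, hL a ha, hL a ha]
  by_cases h1 : π ⟨w, hwz⟩ = 1
  · exact (h.mem_ker _ h1).imp (congrArg Subtype.val) (congrArg Subtype.val)
  exfalso
  obtain ⟨k, hk1, -, hk⟩ := support_involution h hn (x := (⟨w, hwz⟩ : ↥(centralizer ({z} : Set G))))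
    (Subtype.ext hsq) (fun e => h1 (by rw [e, map_one])) (fun e => h1 (by rw [e, h.map_z]))
  obtain ⟨c, hcs, hc3, hcsup, hc⟩ := exists_noncomm_threeCycle (u := π ⟨w, hwz⟩)
    (by rw [← map_mul, show (⟨w, hwz⟩ : ↥(centralizer ({z} : Set G))) * ⟨w, hwz⟩ = 1 from
      Subtype.ext hsq, map_one]) (by omega)
  obtain ⟨d, hd, hd3⟩ := exists_odd_lift h hcs (m := 3) (by decide) hc3
  have hdfix : ∀ a, τ a ≠ a → c a = a := fun a ha => by
    by_contra hca
    exact mem_support.1 (hcsup (mem_support.2 hca)) (hL a ha)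
  have hdisj : Perm.Disjoint (π d) (π ⟨t, htz⟩) := fun a => by
    by_cases ha : τ a = a
    · exact Or.inr ha
    · exact Or.inl (by rw [hd]; exact hdfix a ha)
  have hdt := comm_of_disjoint h hdisj
  set D := across d hdt with hD
  have hDz : π' D * π' ⟨z, hzt⟩ = π' ⟨z, hzt⟩ * π' D := by
    rw [← map_mul, across_comm d hdt, map_mul]
  have hcm := comm_cases h' (x := ⟨w, hwt⟩) (y := D * ⟨w, hwt⟩ * D⁻¹) (by
    rw [map_mul, map_mul, map_inv]; exact hF.commute (hF.conj hDz) hτ')
  refine hc ?_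
  rcases hcm with e | e
  · have eG : (⟨w, hwz⟩ : ↥(centralizer ({z} : Set G))) * (d * ⟨w, hwz⟩ * d⁻¹) =
        d * ⟨w, hwz⟩ * d⁻¹ * ⟨w, hwz⟩ := Subtype.ext (congrArg Subtype.val e :)
    have := congrArg π eG
    simpa [map_mul, hd] using this
  · exfalso
    have eG : (⟨w, hwz⟩ : ↥(centralizer ({z} : Set G))) * (d * ⟨w, hwz⟩ * d⁻¹) =
        d * ⟨w, hwz⟩ * d⁻¹ * ⟨w, hwz⟩ * ⟨t, htz⟩ := Subtype.ext (congrArg Subtype.val e :)
    have h2 := congrArg (fun r => π r a₀) eG
    have hdi : c⁻¹ a₀ = a₀ := Perm.inv_eq_iff_eq.2 (hdfix a₀ ha₀).symm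
    have hta₀ : τ (τ a₀) ≠ τ a₀ := fun e => ha₀ (τ.injective e)
    have hdi' : c⁻¹ (τ a₀) = τ a₀ := Perm.inv_eq_iff_eq.2 (hdfix _ hta₀).symm
    simp only [map_mul, map_inv, hd, Perm.mul_apply, ← hτ, hL a₀ ha₀, hdi, hdfix a₀ ha₀,
      hL _ hta₀, hdi', hdfix _ hta₀] at h2
    exact ha₀ h2.symm

/-- At most three points are left over. -/
theorem card_rest_le [Finite G] (h : IsCoverMap π ⟨z, hzz⟩) (h' : IsCoverMap π' ⟨t, htt⟩)
    (hn : 4 ≤ n) (hz1 : z ≠ 1) (hz2 : z * z = 1)
    (hk : (π ⟨t, htz⟩).support.card = 8) (hk' : 4 < (π' ⟨z, hzt⟩).support.card) : n ≤ 11 := by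
  by_contra hn12
  push Not at hn12
  set τ := π ⟨t, htz⟩ with hτ
  set τ' := π' ⟨z, hzt⟩ with hτd
  have hτ2 : τ' * τ' = 1 := by
    rw [hτd, ← map_mul, show (⟨z, hzt⟩ : ↥(centralizer ({t} : Set G))) * ⟨z, hzt⟩ = 1 from
      Subtype.ext hz2, map_one]
  have hT : τ ≠ 1 := fun e => by rw [e, support_one] at hk; simp at hk
  -- lifts of three-cycles outside the support act trivially on the support of `π' z`
  have key : ∀ c : Perm (Fin n), sign c = 1 → c ^ 3 = 1 → (∀ a, τ a ≠ a → c a = a) →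
      ∃ (g : ↥(centralizer ({z} : Set G)))
        (e : g * ⟨t, htz⟩ = (⟨t, htz⟩ : ↥(centralizer ({z} : Set G))) * g),
        π g = c ∧ ∀ a, τ' a ≠ a → π' (across g e) a = a := by
    intro c hcs hc3 hcfix
    obtain ⟨g, hg, hg3⟩ := exists_odd_lift h hcs (m := 3) (by decide) hc3
    have hdisj : Perm.Disjoint (π g) (π ⟨t, htz⟩) := fun a => by
      by_cases ha : τ a = a
      · exact Or.inr ha
      · exact Or.inl (by rw [hg]; exact hcfix a ha)
    have e := comm_of_disjoint h hdisj
    refine ⟨g, e, hg, ?_⟩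
    set g' := across g e with hg'
    have hg'z : π' g' * τ' = τ' * π' g' := by
      rw [hτd, ← map_mul, across_comm g e, map_mul]
    have hflip : ∀ a b, τ' a ≠ a → τ' b ≠ b → b ≠ a → b ≠ τ' a →
        π' g' * flipPair τ' a b = flipPair τ' a b * π' g' := by
      intro a b ha hb hba hbta
      obtain ⟨f, hf⟩ := h'.lift (sign_two_swaps (Ne.symm ha) (Ne.symm hb) :
        sign (flipPair τ' a b) = 1)
      have hfz := comm_flipPair h' hτ2 ha hb hba hbta hf
      have hfz' : (f : G) ∈ centralizer ({z} : Set G) :=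
        mem_centralizer_singleton_iff.2 (congrArg Subtype.val hfz :)
      set F : ↥(centralizer ({z} : Set G)) := ⟨f, hfz'⟩ with hFd
      have hFt : F * ⟨t, htz⟩ = (⟨t, htz⟩ : ↥(centralizer ({z} : Set G))) * F :=
        Subtype.ext (mem_centralizer_singleton_iff.1 f.2)
      have hFτ : π F * τ = τ * π F := by rw [hτ, ← map_mul, hFt, map_mul]
      have hL : ∀ p, τ p ≠ p → π (g * F * g⁻¹ * F⁻¹) p = p := by
        intro p hp
        have hq : τ ((π F)⁻¹ p) ≠ (π F)⁻¹ p := by
          intro eq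
          apply hp
          have := congrArg (fun r : Perm (Fin n) => r ((π F)⁻¹ p)) hFτ
          simp only [Perm.mul_apply, eq] at this
          simpa using this.symm
        have hci : c⁻¹ ((π F)⁻¹ p) = (π F)⁻¹ p := Perm.inv_eq_iff_eq.2 (hcfix _ hq).symm
        have hFi : π F ((π F)⁻¹ p) = p := (π F).apply_symm_apply p
        simp only [map_mul, map_inv, hg, Perm.mul_apply, hci, hFi, hcfix p hp]
      have hFl : IsFlip τ' (π' (g' * f * g'⁻¹ * f⁻¹)) := by
        have hf1 := isFlip_flipPair hτ2 ha hb hba hbta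
        rw [map_mul, map_mul, map_mul, map_inv, map_inv, hf]
        exact (hf1.conj hg'z).mul (hf1.inv hτ2) hτ2
      have hw := eq_one_or_z (w := (g : G) * f * (g : G)⁻¹ * (f : G)⁻¹) h h' hn hz2 hT
        (g * F * g⁻¹ * F⁻¹).2 (g' * f * g'⁻¹ * f⁻¹).2 hL hFl
      have hcomm : g' * f = f * g' := by
        rcases hw with hw | hw
        · exact Subtype.ext (by
            rw [mul_inv_eq_one, mul_inv_eq_iff_eq_mul] at hw
            exact hw)
        · exfalso
          have h1 : (g : G) * f * (g : G)⁻¹ = z * f := mul_inv_eq_iff_eq_mul.1 hw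
          have hgz : (g : G) * z = z * g := mem_centralizer_singleton_iff.1 g.2
          have hz : ∀ r : G, (g : G) * (z * r) * (g : G)⁻¹ = z * ((g : G) * r * (g : G)⁻¹) := by
            intro r
            rw [← mul_assoc, hgz]; group
          have hg3' : (g : G) ^ 3 = 1 := by
            have := congrArg Subtype.val hg3
            simpa using this
          have h3 : (g : G) ^ 3 * f * ((g : G) ^ 3)⁻¹ = z * (z * (z * f)) := by
            rw [show (g : G) ^ 3 * f * ((g : G) ^ 3)⁻¹ =
              (g : G) * ((g : G) * ((g : G) * f * (g : G)⁻¹) * (g : G)⁻¹) * (g : G)⁻¹ by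
                simp only [pow_succ, pow_zero, one_mul, mul_inv_rev, mul_assoc],
              h1, hz, h1, hz, hz, h1]
          rw [hg3', ← mul_assoc z z, hz2, one_mul, one_mul, inv_one, mul_one, right_eq_mul] at h3
          exact hz1 h3
      have := congrArg π' hcomm
      rwa [map_mul, map_mul, hf] at this
    intro a ha
    rcases flip_of_comm hτ2 hk' hflip ha with e1 | e1
    · exact e1
    · exfalso
      have hcube : π' g' ^ 3 = 1 := by
        rw [← map_pow, show g' ^ 3 = 1 from Subtype.ext (congrArg Subtype.val hg3 :), map_one]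
      have h2 : ∀ p, π' g' (τ' p) = τ' (π' g' p) := fun p =>
        congrArg (fun r : Perm (Fin n) => r p) hg'z
      have h3 := congrArg (fun r : Perm (Fin n) => r a) hcube
      simp only [pow_succ, pow_zero, one_mul, Perm.mul_apply, e1, h2, Perm.one_apply,
        inv_apply_of_sq hτ2] at h3
      exact ha h3
  -- four points outside the support
  have hfix : ∀ a, a ∈ (Finset.univ \ τ.support) → ∀ b, τ b ≠ b → b ≠ a := by
    intro a ha b hb e
    rw [Finset.mem_sdiff] at ha
    exact ha.2 (mem_support.2 (e ▸ hb))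
  have hcard : (Finset.univ \ τ.support).card = n - 8 := by
    rw [Finset.card_univ_sdiff, hk, Fintype.card_fin]
  obtain ⟨p, hp⟩ := Finset.card_pos.1 (show 0 < (Finset.univ \ τ.support).card by omega)
  obtain ⟨q, hq, hq'⟩ := exists_not_mem (S := Finset.univ \ τ.support) (T := {p})
    (by rw [Finset.card_singleton]; omega)
  obtain ⟨r, hr, hr'⟩ := exists_not_mem (S := Finset.univ \ τ.support) (T := {p, q})
    (lt_of_le_of_lt Finset.card_le_two (by omega))
  obtain ⟨s, hs, hs'⟩ := exists_not_mem (S := Finset.univ \ τ.support) (T := {p, q, r})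
    (lt_of_le_of_lt Finset.card_le_three (by omega))
  simp only [Finset.mem_insert, Finset.mem_singleton, not_or] at hq' hr' hs'
  have hcyc : ∀ w ∈ (Finset.univ \ τ.support), w ≠ p → w ≠ q →
      ∃ (g : ↥(centralizer ({z} : Set G)))
        (e : g * ⟨t, htz⟩ = (⟨t, htz⟩ : ↥(centralizer ({z} : Set G))) * g),
        π g = Equiv.swap p q * Equiv.swap q w ∧ ∀ a, τ' a ≠ a → π' (across g e) a = a := by
    intro w hw hwp hwq
    refine key _ (sign_threeCycle (Ne.symm hq') (Ne.symm hwq))
      (threeCycle_pow (Ne.symm hq') (Ne.symm hwq) (Ne.symm hwp)) fun a ha => ?_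
    rw [Perm.mul_apply, swap_apply_of_ne_of_ne (hfix q hq a ha) (hfix w hw a ha),
      swap_apply_of_ne_of_ne (hfix p hp a ha) (hfix q hq a ha)]
  obtain ⟨g₁, e₁, hg₁, ha₁⟩ := hcyc r hr hr'.1 hr'.2
  obtain ⟨g₂, e₂, hg₂, ha₂⟩ := hcyc s hs hs'.1 hs'.2.1
  have hdt : (π (g₁ * g₂)).cycleType = {2, 2} := by
    have he : π (g₁ * g₂) = Equiv.swap p r * Equiv.swap q s := by
      rw [map_mul, hg₁, hg₂]
      exact three_mul_three (by simp [Ne.symm hr'.1, Ne.symm hq', Ne.symm hs'.1, Ne.symm hs'.2.1,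
        Ne.symm hr'.2, Ne.symm hs'.2.2])
    rw [he]
    refine cycleType_two_swaps ?_
    simp [Ne.symm hr'.1, Ne.symm hq', Ne.symm hs'.1, Ne.symm hs'.2.1, hr'.2, Ne.symm hs'.2.2]
  have hsq := mul_self_dt h hn hdt
  obtain ⟨a, haS⟩ := Finset.card_pos.1 (show 0 < τ'.support.card by omega)
  have hzG : (g₁ : G) * g₂ * ((g₁ : G) * g₂) = z := congrArg Subtype.val hsq
  have hz' : across g₁ e₁ * across g₂ e₂ * (across g₁ e₁ * across g₂ e₂) = ⟨z, hzt⟩ := Subtype.ext hzG
  apply mem_support.1 haS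
  rw [hτd, ← hz', map_mul, map_mul, Perm.mul_apply, Perm.mul_apply, Perm.mul_apply,
    ha₂ a (mem_support.1 haS), ha₁ a (mem_support.1 haS), ha₂ a (mem_support.1 haS),
    ha₁ a (mem_support.1 haS)]

end Ambient

end Cfsg.Agent.Lib.S1645Lift56
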