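import Cfsg.Prelude.Def_SporadicB
import Cfsg.Agent.Lib.CommCover12.Lift

/-!
Lifts in a non-split double cover of an alternating group: squares of lifts, involutions,
and lifts of odd order (for S1645).
-/

set_option autoImplicit false

namespace Cfsg.Agent.Lib.S1645Lift56

open Equiv Equiv.Perm
open Cfsg.Agent.Lib.CommCover12

universe u

variable {G : Type u} [Group G] {n : ℕ} {π : G →* Perm (Fin n)} {z : G}

/-- A non-split double cover of an alternating group is a perfect cover map. -/
theorem exists_isCoverMap (hn : 5 ≤ n)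
    (h : Cfsg.IsNonsplitDoubleCover G (alternatingGroup (Fin n))) (hz : z ∈ Subgroup.center G)
    (hz1 : z ≠ 1) : ∃ π : G →* Perm (Fin n), IsCoverMap π z := by
  classical
  obtain ⟨hc, ⟨e⟩, hsplit⟩ := h
  have : Finite (Subgroup.center G) := Nat.finite_of_card_ne_zero (by omega)
  have hset : ∀ w ∈ Subgroup.center G, w = 1 ∨ w = z := by
    intro w hw
    by_contra hne
    push Not at hne
    have h3 : ({1, (⟨z, hz⟩ : Subgroup.center G), ⟨w, hw⟩} : Finset (Subgroup.center G)).card = 3 := by
      rw [Finset.card_insert_of_notMem, Finset.card_pair]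
      · exact fun e => hne.2 (congrArg Subtype.val e).symm
      · simp only [Finset.mem_insert, Finset.mem_singleton, not_or]
        exact ⟨fun e => hz1 (congrArg Subtype.val e).symm, fun e => hne.1 (congrArg Subtype.val e).symm⟩
    have : Fintype (Subgroup.center G) := Fintype.ofFinite _
    have hle := Finset.card_le_univ ({1, (⟨z, hz⟩ : Subgroup.center G), ⟨w, hw⟩} : Finset (Subgroup.center G))
    rw [h3, ← Nat.card_eq_fintype_card, hc] at hle
    omega
  have hzz : z * z = 1 := by
    rcases hset _ (mul_mem hz hz) with e' | e'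
    · exact e'
    · exact absurd (mul_eq_left.1 e') hz1
  let f : G →* alternatingGroup (Fin n) := e.toMonoidHom.comp (QuotientGroup.mk' (Subgroup.center G))
  have hfs : Function.Surjective f := e.surjective.comp (QuotientGroup.mk'_surjective _)
  have hker : ∀ x, f x = 1 ↔ x ∈ Subgroup.center G := fun x => by
    simp [f, QuotientGroup.eq_one_iff]
  have hperf : commutator G = ⊤ := by
    by_contra hne
    have hmap : (commutator G).map f = ⊤ := by
      rw [commutator_def, Subgroup.map_commutator, Subgroup.map_top_of_surjective f hfs,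
        ← commutator_def]
      exact commutator_alternatingGroup_eq_top (by simpa using hn)
    have hsup : ∀ g : G, ∃ d ∈ commutator G, ∃ c ∈ Subgroup.center G, g = c * d := by
      intro g
      obtain ⟨d, hd, hdg⟩ : f g ∈ (commutator G).map f := by rw [hmap]; exact Subgroup.mem_top _
      exact ⟨d, hd, g * d⁻¹, (hker _).1 (by rw [map_mul, map_inv, hdg, mul_inv_cancel]),
        by rw [inv_mul_cancel_right]⟩
    have hzD : z ∉ commutator G := by
      intro hzD
      refine hne (eq_top_iff.2 fun g _ => ?_)
      obtain ⟨d, hd, c, hc', rfl⟩ := hsup g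
      rcases hset c hc' with rfl | rfl
      · rw [one_mul]; exact hd
      · exact mul_mem hzD hd
    refine hsplit (commutator G) (Subgroup.isComplement'_of_disjoint_and_mul_eq_univ ?_ ?_)
    · rw [Subgroup.disjoint_def]
      intro w hw hw'
      rcases hset w hw with rfl | rfl
      · rfl
      · exact absurd hw' hzD
    · rw [Set.eq_univ_iff_forall]
      intro g
      obtain ⟨d, hd, c, hc', rfl⟩ := hsup g
      exact Set.mul_mem_mul hc' hd
  refine ⟨(alternatingGroup (Fin n)).subtype.comp f,
    { range_eq := ?_, perfect := hperf, mem_ker := fun x hx => ?_, comm := fun x => ?_,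
      sq := hzz, ne_one := hz1, map_z := ?_ }⟩
  · rw [MonoidHom.range_comp, MonoidHom.range_eq_top.2 hfs, ← MonoidHom.range_eq_map,
      Subgroup.range_subtype]
  · exact hset x ((hker x).1 (Subtype.ext hx))
  · exact Subgroup.mem_center_iff.1 hz x
  · simp [(hker z).2 hz]

theorem comm' (h : IsCoverMap π z) (x : G) : z * x = x * z := (h.comm x).symm

/-- A lift of a permutation of prescribed support commutes with the lifts disjoint from it. -/
theorem comm_of_disjoint (h : IsCoverMap π z) {S W : G} (hd : Perm.Disjoint (π S) (π W)) :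
    S * W = W * S :=
  h.disjoint_comm (s := (π S).support) le_rfl fun _ hx =>
    Finset.mem_compl.2 (Finset.disjoint_right.1 (disjoint_iff_disjoint_support.1 hd) hx)

/-- The square of a lift of a product of `2j` transpositions is `z ^ j`. -/
theorem mul_self_eq_pow [Finite G] (h : IsCoverMap π z) (hn : 4 ≤ n) :
    ∀ (j : ℕ) {x : G}, (π x).cycleType = Multiset.replicate (2 * j) 2 → x * x = z ^ j := by
  intro j
  induction j with
  | zero =>
    intro x hx
    rw [Nat.mul_zero, Multiset.replicate_zero, cycleType_eq_zero] at hx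
    rcases h.mem_ker x hx with rfl | rfl
    · rw [mul_one, pow_zero]
    · rw [h.sq, pow_zero]
  | succ j ih =>
    intro x hx
    have hsp : (π x).cycleType = {2, 2} + Multiset.replicate (2 * j) 2 := by
      rw [hx, show 2 * (j + 1) = 2 + 2 * j by ring, Multiset.replicate_add]
      rfl
    obtain ⟨p, q, hpq, hmul, hp, hq⟩ := exists_split _ _ _ hsp
    obtain ⟨A, hA⟩ := h.lift (p := p) (by rw [sign_of_cycleType, hp]; rfl)
    have hW : π (A⁻¹ * x) = q := by rw [map_mul, map_inv, hA, ← hmul, inv_mul_cancel_left]
    have hA2 : A * A = z := by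
      refine (h.mem_ker _ ?_).resolve_left (h.sq_ne_one hn (by rw [hA]; exact hp))
      rw [map_mul, hA, ← pow_two, pow_prime_eq_one_iff]
      intro c hc
      rw [hp] at hc
      simp_all
    have hcomm : A * (A⁻¹ * x) = A⁻¹ * x * A :=
      comm_of_disjoint h (by rw [hA, hW]; exact hpq)
    have hW2 := ih (x := A⁻¹ * x) (by rw [hW]; exact hq)
    calc x * x = A * (A⁻¹ * x * A) * (A⁻¹ * x) := by group
      _ = (A * A) * (A⁻¹ * x * (A⁻¹ * x)) := by rw [← hcomm]; simp only [mul_assoc]
      _ = z ^ (j + 1) := by rw [hA2, hW2, pow_succ']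

/-- A double transposition lifts to an element squaring to `z`. -/
theorem mul_self_dt [Finite G] (h : IsCoverMap π z) (hn : 4 ≤ n) {x : G}
    (hx : (π x).cycleType = {2, 2}) : x * x = z := by
  rw [mul_self_eq_pow h hn 1 (x := x) (hx.trans rfl), pow_one]

/-- The involutions of the cover and `1`, `z` are the lifts of products of `4k` transpositions. -/
theorem mul_self_eq_one_iff [Finite G] (h : IsCoverMap π z) (hn : 4 ≤ n) {x : G} :
    x * x = 1 ↔ ∃ k, (π x).cycleType = Multiset.replicate (4 * k) 2 := by
  refine ⟨fun hx => ?_, fun ⟨k, hk⟩ => ?_⟩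
  · have : Fact (Nat.Prime 2) := ⟨Nat.prime_two⟩
    have hct := cycleType_of_pow_prime_eq_one (σ := π x) (p := 2)
      (by rw [pow_two, ← map_mul, hx, map_one])
    obtain ⟨j, hj⟩ : Even (π x).cycleType.card := by
      have hs := h.sign_map x
      rw [sign_of_cycleType, hct, Multiset.sum_replicate, Multiset.card_replicate, smul_eq_mul] at hs
      by_contra hodd
      rw [Nat.not_even_iff_odd] at hodd
      rw [Odd.neg_one_pow ((Even.add_odd ⟨(π x).cycleType.card, by ring⟩ hodd))] at hs
      exact absurd hs (by decide)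
    rw [hj, ← two_mul] at hct
    have hsq := mul_self_eq_pow h hn j hct
    rw [hx] at hsq
    rcases Nat.even_or_odd j with ⟨k, hk⟩ | ho
    · exact ⟨k, by rw [hct, show 2 * j = 4 * k by omega]⟩
    · obtain ⟨k, rfl⟩ := ho
      rw [pow_succ, pow_mul, pow_two, h.sq, one_pow, one_mul] at hsq
      exact absurd hsq.symm h.ne_one
  · rw [mul_self_eq_pow h hn (2 * k) (by rw [hk]; congr 1; ring), pow_mul, pow_two, h.sq, one_pow]

/-- Every lift of a permutation of odd order `m` has a translate of order dividing `m`. -/
theorem exists_odd_lift (h : IsCoverMap π z) {p : Perm (Fin n)} (hp : sign p = 1) {m : ℕ}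
    (hm : Odd m) (hpm : p ^ m = 1) : ∃ x : G, π x = p ∧ x ^ m = 1 := by
  obtain ⟨a, ha⟩ := h.lift hp
  rcases h.mem_ker (a ^ m) (by rw [map_pow, ha, hpm]) with e | e
  · exact ⟨a, ha, e⟩
  · refine ⟨a * z, by rw [map_mul, ha, h.map_z, mul_one], ?_⟩
    obtain ⟨k, rfl⟩ := hm
    rw [(show Commute a z from h.comm a).mul_pow, e, pow_succ z, pow_mul, pow_two, h.sq, one_pow,
      one_mul, h.sq]

/-- Two lifts of the same permutation whose orders are odd agree. -/
theorem eq_of_map_eq (h : IsCoverMap π z) {x y : G} {m : ℕ} (hm : Odd m) (hx : x ^ m = 1)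
    (hy : y ^ m = 1) (e : π x = π y) : x = y := by
  rcases h.eq_or e with e' | e'
  · exact e'.symm
  · exfalso
    obtain ⟨k, rfl⟩ := hm
    rw [e', (show Commute x z from h.comm x).mul_pow, hx, one_mul, pow_succ, pow_mul, pow_two, h.sq,
      one_pow, one_mul] at hy
    exact h.ne_one hy

/-- Centralisers of elements of odd order are full preimages. -/
theorem comm_of_odd (h : IsCoverMap π z) {x s : G} {m : ℕ} (hm : Odd m) (hx : x ^ m = 1)
    (e : π s * π x = π x * π s) : s * x = x * s := by
  have hconj : (s * x * s⁻¹) ^ m = 1 := by rw [conj_pow, hx, mul_one, mul_inv_cancel]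
  have := eq_of_map_eq h hm hconj hx
    (by rw [map_mul, map_mul, map_inv, e, mul_inv_cancel_right])
  exact mul_inv_eq_iff_eq_mul.1 this

end Cfsg.Agent.Lib.S1645Lift56
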