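import Cfsg.Agent.Lib.S1645.Reduce

/-!
In a group with such an involution centraliser `C(z)` contains a Sylow `2`-subgroup and, when
`n ≤ 15` and the lifts of four transpositions are fused to `z`, there is one class of involutions
(for S1645 and S0452).
-/

set_option autoImplicit false

universe u v

namespace Cfsg.Agent.Lib.S1645

open Equiv Equiv.Perm Subgroup
open scoped Pointwise

/-- In the cover `z` is the only involution centralising a Sylow `2`-subgroup. -/
theorem Cover.eq_of_central {H : Type v} [Group H] {n : ℕ} {z : H} {π : H →* Perm (Fin n)}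
    (C : Cover n z π) (hn : 5 ≤ n) (P : Sylow 2 H) {u : H} (hu : orderOf u = 2)
    (hc : ∀ x ∈ (P : Subgroup H), x * u = u * x) : u = z := by
  by_contra hne
  have := C.finite
  have : Fact (Nat.Prime 2) := ⟨Nat.prime_two⟩
  obtain ⟨k, hk1, hk⟩ := C.involution_type hn hu hne
  have hcard := C.card_centralizer_of_twist hn (m := 4 * k) (by omega) hk
  have hle : (P : Subgroup H) ≤ centralizer ({u} : Set H) := fun x hx =>
    mem_centralizer_singleton_iff.2 (hc x hx)
  have h1 : Nat.card (P : Subgroup H) ∣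
      Nat.card ↥(alternatingGroup (Fin n) ⊓ centralizer ({π u} : Set (Perm (Fin n)))) :=
    hcard ▸ Subgroup.card_dvd_of_le hle
  have h2 : Nat.card H = 2 * Nat.card (alternatingGroup (Fin n)) := by
    have htop : (alternatingGroup (Fin n)).comap π = ⊤ := eq_top_iff.2 fun x _ => C.mem x
    rw [← C.card_comap _ le_rfl, htop, Subgroup.card_top]
  have h3 : 2 * Nat.card (P : Subgroup H) ∣ Nat.card H :=
    h2 ▸ Nat.mul_dvd_mul_left 2 (h1.trans (Subgroup.card_dvd_of_le inf_le_left))
  rw [P.card_eq_multiplicity, ← pow_succ'] at h3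
  have h4 := (Nat.Prime.pow_dvd_iff_le_factorization Nat.prime_two (Nat.card_pos).ne').1 h3
  omega

/-- The centraliser contains a Sylow `2`-subgroup. -/
theorem exists_sylow_le {G : Type u} [Group G] [Finite G] {n : ℕ} {z : G}
    {π : ↥(centralizer ({z} : Set G)) →* Perm (Fin n)} (hn : 5 ≤ n) (hz : orderOf z = 2)
    (C : Cover n (zC z) π) :
    ∃ S : Sylow 2 G, z ∈ S ∧ (S : Subgroup G) ≤ centralizer ({z} : Set G) := by
  have : Fact (Nat.Prime 2) := ⟨Nat.prime_two⟩
  set H := centralizer ({z} : Set G) with hH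
  obtain ⟨P, hP⟩ := (IsPGroup.of_card (n := 1) (G := Subgroup.zpowers (zC z))
    (by rw [Nat.card_zpowers, pow_one, C.ord])).exists_le_sylow (p := 2)
  have hzP : zC z ∈ (P : Subgroup ↥(centralizer ({z} : Set G))) := hP (mem_zpowers _)
  set P' := (P : Subgroup ↥H).map H.subtype with hP'
  obtain ⟨S, hS⟩ := (P.2.map H.subtype).exists_le_sylow
  have hzP' : z ∈ P' := ⟨zC z, hzP, rfl⟩
  refine ⟨S, hS hzP', ?_⟩
  suffices hEq : (S : Subgroup G) = P' from hEq.le.trans (map_subtype_le _)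
  by_contra hne
  have hlt : P'.subgroupOf (S : Subgroup G) < ⊤ := by
    refine lt_top_iff_ne_top.2 fun e => hne (le_antisymm ?_ hS)
    exact Subgroup.subgroupOf_eq_top.1 e
  have hSn : Group.IsNilpotent ↥(S : Subgroup G) := S.2.isNilpotent
  have hnc := Group.normalizerCondition_of_isNilpotent (G := ↥(S : Subgroup G)) _ hlt
  obtain ⟨g, hg, hgP⟩ := SetLike.exists_of_lt hnc
  rw [Subgroup.mem_subgroupOf] at hgP
  have hgnorm : ∀ x ∈ P', (g : G) * x * (g : G)⁻¹ ∈ P' ∧ (g : G)⁻¹ * x * (g : G) ∈ P' := by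
    intro x hx
    have hx' : (⟨x, hS hx⟩ : ↥(S : Subgroup G)) ∈ P'.subgroupOf (S : Subgroup G) :=
      mem_subgroupOf.2 hx
    exact ⟨mem_subgroupOf.1 ((mem_normalizer_iff.1 hg _).1 hx'),
      mem_subgroupOf.1 ((Subgroup.mem_normalizer_iff''.1 hg _).1 hx')⟩
  obtain ⟨zg, hzg, hzge⟩ := (hgnorm z hzP').1
  have hord : orderOf zg = 2 := by
    rw [← orderOf_injective H.subtype H.subtype_injective, hzge]
    exact (MulEquiv.orderOf_eq (MulAut.conj (g : G)) z).trans hz
  have hu : zg = zC z := C.eq_of_central hn P hord fun x hx => Subtype.ext (by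
    obtain ⟨y, hy, hye⟩ := (hgnorm (x : G) ⟨x, hx, rfl⟩).2
    have hyz : (y : G) * z = z * y := mem_centralizer_singleton_iff.1 y.2
    show (x : G) * zg = zg * x
    rw [show (zg : G) = g * z * (g : G)⁻¹ from hzge, show (x : G) = g * y * (g : G)⁻¹ by
      rw [show (y : G) = (g : G)⁻¹ * x * g from hye]; group]
    calc (g : G) * y * (g : G)⁻¹ * (g * z * (g : G)⁻¹) = g * (y * z) * (g : G)⁻¹ := by group
      _ = g * z * (g : G)⁻¹ * (g * y * (g : G)⁻¹) := by rw [hyz]; group)
  have hgH : (g : G) ∈ H := by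
    rw [hH, mem_centralizer_singleton_iff]
    have h : (g : G) * z * (g : G)⁻¹ = z := by rw [← hzge, hu]; rfl
    exact mul_inv_eq_iff_eq_mul.1 h
  have hple : (P : Subgroup ↥H) ≤ ((S : Subgroup G).subgroupOf H) := fun x hx =>
    mem_subgroupOf.2 (hS ⟨x, hx, rfl⟩)
  have heq := P.3 (S.2.comap_subtype (K := H)) hple
  refine hgP ⟨⟨g, hgH⟩, ?_, rfl⟩
  show (⟨g, hgH⟩ : ↥H) ∈ (P : Subgroup ↥H)
  rw [← heq]
  exact g.2

/-- With fused lifts of four transpositions there is one class of involutions. -/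
theorem isConj_involution {G : Type u} [Group G] [Finite G] {n : ℕ} {z : G}
    {π : ↥(centralizer ({z} : Set G)) →* Perm (Fin n)} (hn : 5 ≤ n) (hn15 : n ≤ 15)
    (hz : orderOf z = 2) (C : Cover n (zC z) π) (hfus : Fused π) {u : G} (hu : orderOf u = 2) :
    IsConj z u := by
  have : Fact (Nat.Prime 2) := ⟨Nat.prime_two⟩
  obtain ⟨S, -, hSle⟩ := exists_sylow_le hn hz C
  obtain ⟨R, hR⟩ := (IsPGroup.of_card (n := 1) (G := Subgroup.zpowers u)
    (by rw [Nat.card_zpowers, pow_one, hu])).exists_le_sylow (p := 2)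
  obtain ⟨g, hg⟩ := MulAction.exists_smul_eq G R S
  have hv : g * u * g⁻¹ ∈ (S : Subgroup G) := by
    rw [← hg]
    show g * u * g⁻¹ ∈ (MulAut.conj g) • (R : Subgroup G)
    exact ⟨u, hR (mem_zpowers u), rfl⟩
  have hord : orderOf (g * u * g⁻¹) = 2 := (MulEquiv.orderOf_eq (MulAut.conj g) u).trans hu
  have hconj : IsConj (g * u * g⁻¹) u := (isConj_iff.2 ⟨g, rfl⟩).symm
  by_cases hvz : g * u * g⁻¹ = z
  · exact hvz ▸ hconj
  refine (hfus _ ⟨hord, hSle hv, ?_⟩).trans hconj
  obtain ⟨k, hk1, hk⟩ := C.involution_type hn (g := ⟨_, hSle hv⟩)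
    (by rw [← orderOf_injective _ (centralizer ({z} : Set G)).subtype_injective]; exact hord)
    (fun e => hvz (congrArg Subtype.val e))
  have hle := Finset.card_le_univ (π ⟨_, hSle hv⟩).support
  rw [← sum_cycleType, hk, Multiset.sum_replicate, smul_eq_mul, Fintype.card_fin] at hle
  rw [hk, show k = 1 by omega]

end Cfsg.Agent.Lib.S1645
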