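import Cfsg.Agent.Lib.S1645Lift56.Basic

/-!
Commutation signs in a non-split double cover of an alternating group: which elements conjugate a
lift `x` of a product of transpositions to `x * z` (for S1645).
-/

set_option autoImplicit false

namespace Cfsg.Agent.Lib.S1645Lift56

open Equiv Equiv.Perm
open Cfsg.Agent.Lib.CommCover12

universe u

variable {G : Type u} [Group G] {n : ℕ} {π : G →* Perm (Fin n)} {z : G}

theorem twist_mul_twist (h : IsCoverMap π z) {s r x : G} (hs : s * x * s⁻¹ = x * z)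
    (hr : r * x * r⁻¹ = x * z) : s * r * x * (s * r)⁻¹ = x := by
  calc s * r * x * (s * r)⁻¹ = s * (r * x * r⁻¹) * s⁻¹ := by group
    _ = s * x * (z * s⁻¹) := by rw [hr]; group
    _ = s * x * s⁻¹ * z := by rw [comm' h]; group
    _ = x := by rw [hs, mul_assoc, h.sq, mul_one]

theorem twist_mul_fix (h : IsCoverMap π z) {s r x : G} (hs : s * x * s⁻¹ = x * z)
    (hr : r * x = x * r) : s * r * x * (s * r)⁻¹ = x * z ∧ r * s * x * (r * s)⁻¹ = x * z := by
  refine ⟨?_, ?_⟩
  · calc s * r * x * (s * r)⁻¹ = s * (r * x) * r⁻¹ * s⁻¹ := by group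
      _ = x * z := by rw [hr, ← hs]; group
  · calc r * s * x * (r * s)⁻¹ = r * (s * x * s⁻¹) * r⁻¹ := by group
      _ = r * x * (z * r⁻¹) := by rw [hs]; group
      _ = r * x * r⁻¹ * z := by rw [comm' h]; group
      _ = x * z := by rw [hr, mul_inv_cancel_right]

/-- Conjugating a product, one factor being twisted and the other fixed. -/
theorem twist_factor (h : IsCoverMap π z) {s A W : G} (hA : s * A * s⁻¹ = A * z)
    (hW : s * W = W * s) : s * (A * W) * s⁻¹ = A * W * z := by
  calc s * (A * W) * s⁻¹ = s * A * s⁻¹ * (s * W * s⁻¹) := by group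
    _ = A * (z * W) := by rw [hA, hW, mul_inv_cancel_right, mul_assoc]
    _ = A * W * z := by rw [comm' h, mul_assoc]

/-- Translating by `z` does not change commutation signs. -/
theorem twist_z (h : IsCoverMap π z) {s x : G} (hs : s * x * s⁻¹ = x * z) :
    s * (x * z) * s⁻¹ = x ∧ s * z * x * (s * z)⁻¹ = x * z := by
  refine ⟨?_, (twist_mul_fix h hs (comm' h x)).1⟩
  calc s * (x * z) * s⁻¹ = s * x * (z * s⁻¹) := by group
    _ = s * x * s⁻¹ * z := by rw [comm' h]; group
    _ = x := by rw [hs, mul_assoc, h.sq, mul_one]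

theorem ne_mul_z (h : IsCoverMap π z) (x : G) : x * z ≠ x :=
  fun e => h.ne_one (mul_eq_left.1 e)

theorem cycleType_two_swaps {a b c d : Fin n} (hd : [a, b, c, d].Nodup) :
    (Equiv.swap a b * Equiv.swap c d).cycleType = {2, 2} := by
  simp only [List.nodup_cons, List.mem_cons, List.not_mem_nil, or_false, not_or, List.nodup_nil,
    and_true, not_false_eq_true] at hd
  obtain ⟨⟨hab, hac, had⟩, ⟨hbc, hbd⟩, hcd⟩ := hd
  have hdj : Equiv.Perm.Disjoint (Equiv.swap a b) (Equiv.swap c d) := by
    rw [disjoint_iff_disjoint_support, support_swap hab, support_swap hcd]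
    simp [Ne.symm hac, Ne.symm had, Ne.symm hbc, Ne.symm hbd]
  rw [hdj.cycleType_mul, (IsSwap.isCycle ⟨_, _, hab, rfl⟩).cycleType,
    (IsSwap.isCycle ⟨_, _, hcd, rfl⟩).cycleType, support_swap hab, support_swap hcd,
    Finset.card_pair hab, Finset.card_pair hcd]
  rfl

theorem sign_two_swaps {a b c d : Fin n} (hab : a ≠ b) (hcd : c ≠ d) :
    sign (Equiv.swap a b * Equiv.swap c d) = 1 := by
  rw [map_mul, sign_swap hab, sign_swap hcd]; rfl

/-- The block swap `(ac)(bd)` twists a lift of `(ab)(cd) q`, `q` fixing `a, b, c, d`. -/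
theorem twist_block_swap [Finite G] (h : IsCoverMap π z) (hn : 4 ≤ n) {a b c d : Fin n}
    (hd : [a, b, c, d].Nodup) {q : Perm (Fin n)} (hq : q a = a ∧ q b = b ∧ q c = c ∧ q d = d)
    {x s : G} (hx : π x = Equiv.swap a b * Equiv.swap c d * q)
    (hs : π s = Equiv.swap a c * Equiv.swap b d) : s * x * s⁻¹ = x * z := by
  have hd' := hd
  simp only [List.nodup_cons, List.mem_cons, List.not_mem_nil, or_false, not_or, List.nodup_nil,
    and_true, not_false_eq_true] at hd'
  obtain ⟨⟨hab, hac, had⟩, ⟨hbc, hbd⟩, hcd⟩ := hd'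
  obtain ⟨A, hA⟩ := h.lift (sign_two_swaps hab hcd)
  have hW : π (A⁻¹ * x) = q := by rw [map_mul, map_inv, hA, hx, inv_mul_cancel_left]
  have hprod : Equiv.swap a b * Equiv.swap c d * (Equiv.swap a c * Equiv.swap b d) =
      Equiv.swap a d * Equiv.swap b c ∧
      Equiv.swap a c * Equiv.swap b d * (Equiv.swap a b * Equiv.swap c d) =
      Equiv.swap a d * Equiv.swap b c := by
    constructor <;> refine Equiv.ext fun y => ?_ <;>
      simp only [Perm.mul_apply, swap_apply_def] <;> split_ifs <;> simp_all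
  have hsA : s * A * s⁻¹ = A * z :=
    h.four_anticomm hn (by rw [hA]; exact cycleType_two_swaps hd)
      (by rw [hs]; exact cycleType_two_swaps (by simp_all [List.nodup_cons, Ne.symm hbc]))
      (by rw [hA, hs, hprod.1]; exact cycleType_two_swaps (by simp_all [List.nodup_cons, Ne.symm hbd, Ne.symm hcd]))
      (by rw [hA, hs, hprod.1, hprod.2])
  have hsW : s * (A⁻¹ * x) = A⁻¹ * x * s := by
    refine comm_of_disjoint h ?_
    intro y
    rw [hs, hW]
    by_cases hy : y = a ∨ y = b ∨ y = c ∨ y = d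
    · right; rcases hy with rfl | rfl | rfl | rfl <;> simp [hq]
    · left
      push Not at hy
      simp [swap_apply_of_ne_of_ne, hy]
  have := twist_factor h hsA hsW
  rwa [mul_inv_cancel_left] at this

/-- The pair `(ab)(ef)`, `e, f` outside the support, twists a lift of `(ab)(cd) q`. -/
theorem twist_flip_outside [Finite G] (h : IsCoverMap π z) (hn : 4 ≤ n) {a b c d e f : Fin n}
    (hd : [a, b, c, d, e, f].Nodup) {q : Perm (Fin n)}
    (hq : q a = a ∧ q b = b ∧ q e = e ∧ q f = f)
    {x s : G} (hx : π x = Equiv.swap a b * Equiv.swap c d * q)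
    (hs : π s = Equiv.swap a b * Equiv.swap e f) : s * x * s⁻¹ = x * z := by
  have hd' := hd
  simp only [List.nodup_cons, List.mem_cons, List.not_mem_nil, or_false, not_or, List.nodup_nil,
    and_true, not_false_eq_true] at hd'
  obtain ⟨⟨hab, hac, had, hae, haf⟩, ⟨hbc, hbd, hbe, hbf⟩, ⟨hcd, hce, hcf⟩, ⟨hde, hdf⟩, hef⟩ := hd'
  obtain ⟨A, hA⟩ := h.lift (sign_two_swaps hab hcd)
  have hW : π (A⁻¹ * x) = q := by rw [map_mul, map_inv, hA, hx, inv_mul_cancel_left]
  have hprod : Equiv.swap a b * Equiv.swap c d * (Equiv.swap a b * Equiv.swap e f) =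
      Equiv.swap c d * Equiv.swap e f ∧
      Equiv.swap a b * Equiv.swap e f * (Equiv.swap a b * Equiv.swap c d) =
      Equiv.swap c d * Equiv.swap e f := by
    constructor <;> refine Equiv.ext fun y => ?_ <;>
      simp only [Perm.mul_apply, swap_apply_def] <;> split_ifs <;> simp_all
  have hsA : s * A * s⁻¹ = A * z :=
    h.four_anticomm hn (by rw [hA]; exact cycleType_two_swaps (by simp_all [List.nodup_cons]))
      (by rw [hs]; exact cycleType_two_swaps (by simp_all [List.nodup_cons]))
      (by rw [hA, hs, hprod.1]; exact cycleType_two_swaps (by simp_all [List.nodup_cons]))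
      (by rw [hA, hs, hprod.1, hprod.2])
  have hsW : s * (A⁻¹ * x) = A⁻¹ * x * s := by
    refine comm_of_disjoint h ?_
    intro y
    rw [hs, hW]
    by_cases hy : y = a ∨ y = b ∨ y = e ∨ y = f
    · right; rcases hy with rfl | rfl | rfl | rfl <;> simp [hq]
    · left
      push Not at hy
      simp [swap_apply_of_ne_of_ne, hy]
  have := twist_factor h hsA hsW
  rwa [mul_inv_cancel_left] at this

/-- A lift of a product of at least two transpositions is conjugate to its translate by `z`. -/
theorem exists_twist [Finite G] (h : IsCoverMap π z) (hn : 4 ≤ n) {m : ℕ} {x : G}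
    (hx : (π x).cycleType = Multiset.replicate (m + 2) 2) : ∃ s : G, s * x * s⁻¹ = x * z := by
  have hsp : (π x).cycleType = {2, 2} + Multiset.replicate m 2 := by
    rw [hx, add_comm m 2, Multiset.replicate_add]; rfl
  obtain ⟨p, q, hpq, hmul, hp, -⟩ := exists_split _ _ _ hsp
  obtain ⟨p₁, p₂, hp12, hpm, h1, h2⟩ := exists_split {2} {2} p hp
  obtain ⟨a, b, hab, rfl⟩ : p₁.IsSwap := card_support_eq_two.1 (by rw [← sum_cycleType, h1]; rfl)
  obtain ⟨c, d, hcd, rfl⟩ : p₂.IsSwap := card_support_eq_two.1 (by rw [← sum_cycleType, h2]; rfl)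
  rw [disjoint_iff_disjoint_support, support_swap hab, support_swap hcd] at hp12
  simp only [Finset.disjoint_insert_left, Finset.disjoint_singleton_left, Finset.mem_insert,
    Finset.mem_singleton, not_or] at hp12
  obtain ⟨⟨hac, had⟩, hbc, hbd⟩ := hp12
  have hd : [a, b, c, d].Nodup := by
    simp [hab, hcd, hac, had, hbc, hbd]
  have hq : ∀ y, p y ≠ y → q y = y := fun y hy => (hpq y).resolve_left hy
  have hqa : q a = a := hq a (by rw [← hpm]; simp [swap_apply_of_ne_of_ne, hac, had, Ne.symm hab])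
  have hqb : q b = b := hq b (by rw [← hpm]; simp [swap_apply_of_ne_of_ne, hbc, hbd, hab])
  have hqc : q c = c := hq c (by rw [← hpm]; simp [swap_apply_of_ne_of_ne, Ne.symm had, Ne.symm hbd, Ne.symm hcd])
  have hqd : q d = d := hq d (by rw [← hpm]; simp [swap_apply_of_ne_of_ne, Ne.symm hac, Ne.symm hbc, hcd])
  obtain ⟨s, hs⟩ := h.lift (sign_two_swaps hac hbd)
  exact ⟨s, twist_block_swap h hn hd ⟨hqa, hqb, hqc, hqd⟩ (by rw [← hmul, ← hpm]) hs⟩

end Cfsg.Agent.Lib.S1645Lift56
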